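import Groth.Agent.ModPush.QCoh
import Groth.Agent.KerDerived.LocCohSeq
import Groth.Agent.SSExist.LocCoh
import Groth.Prelude.Def_SuppFam
import Mathlib.Algebra.Homology.HomologySequence

/-!
Sections with support in a locally closed subset, on modules.
-/

set_option autoImplicit false
set_option linter.style.haveILetI false
set_option backward.isDefEq.respectTransparency false
set_option backward.isDefEq.respectTransparency.types false
universe u

open CategoryTheory CategoryTheory.Limits Opposite TopologicalSpace AlgebraicGeometry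

namespace Groth.Agent.LocClosedSupp

open CohVanish

variable {Y : Scheme.{u}}

/-- Restriction to an open followed by the direct image. -/
noncomputable abbrev P (V : Y.Opens) : Y.Modules ⥤ Y.Modules :=
  Scheme.Modules.restrictFunctor V.ι ⋙ Scheme.Modules.pushforward V.ι

/-- The unit. -/
noncomputable abbrev un (V : Y.Opens) : 𝟭 Y.Modules ⟶ P V := (Scheme.Modules.restrictAdjunction V.ι).unit

variable {V₂ V₁ : Y.Opens} (h : V₂ ≤ V₁)

include h in
lemma image_le (O : Y.Opens) : V₂.ι ''ᵁ (V₂.ι ⁻¹ᵁ O) ≤ V₁.ι ''ᵁ (V₁.ι ⁻¹ᵁ O) := by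
  rintro _ ⟨x, hx, rfl⟩
  exact ⟨⟨x.1, h x.2⟩, hx, rfl⟩

include h in
lemma isIso_map_unit (M : Y.Modules) : IsIso ((P V₂).map ((un V₁).app M)) := by
  rw [Scheme.Modules.Hom.isIso_iff_isIso_app]
  intro O
  change IsIso (((un V₁).app M).app (V₂.ι ''ᵁ (V₂.ι ⁻¹ᵁ O)))
  rw [Scheme.Modules.restrictAdjunction_unit_app_app]
  have e : V₁.ι ''ᵁ (V₁.ι ⁻¹ᵁ (V₂.ι ''ᵁ (V₂.ι ⁻¹ᵁ O))) = V₂.ι ''ᵁ (V₂.ι ⁻¹ᵁ O) := by
    refine le_antisymm (V₁.ι.image_preimage_le _) fun x hx => ?_
    obtain ⟨y, hy, rfl⟩ := hx
    exact ⟨⟨y.1, h y.2⟩, ⟨y, hy, rfl⟩, rfl⟩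
  rw [Subsingleton.elim (homOfLE (V₁.ι.image_preimage_le (V₂.ι ''ᵁ (V₂.ι ⁻¹ᵁ O)))) (eqToHom e)]
  infer_instance

/-- Restriction from the larger open to the smaller one. -/
noncomputable def r : P V₁ ⟶ P V₂ :=
  haveI := isIso_map_unit h
  { app := fun M => (un V₂).app ((P V₁).obj M) ≫ inv ((P V₂).map ((un V₁).app M))
    naturality := fun M N f => by
      have h1 := (un V₁).naturality f
      have h2 := (un V₂).naturality ((P V₁).map f)
      simp only [Functor.id_map] at h1 h2
      rw [← Category.assoc, h2, Category.assoc, Category.assoc]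
      refine congrArg ((un V₂).app _ ≫ ·) ?_
      rw [IsIso.eq_inv_comp, ← Category.assoc, IsIso.comp_inv_eq, ← Functor.map_comp, ← Functor.map_comp, h1] }

lemma r_app_apply (M : Y.Modules) (O : Y.Opens) (s : Γ((P V₁).obj M, O)) :
    ((r h).app M).app O s = M.presheaf.map (homOfLE (image_le h O)).op s := by
  haveI := isIso_map_unit h M
  apply (ConcreteCategory.bijective_of_isIso (((P V₂).map ((un V₁).app M)).app O)).1
  have h1 : (r h).app M ≫ (P V₂).map ((un V₁).app M) = (un V₂).app ((P V₁).obj M) :=
    (Category.assoc _ _ _).trans ((congrArg (_ ≫ ·) (IsIso.inv_hom_id _)).trans (Category.comp_id _))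
  refine (congr($(congrArg (fun z => Scheme.Modules.Hom.app z O) h1) s)).trans ?_
  change ((un V₂).app ((P V₁).obj M)).app O s =
    ((un V₁).app M).app (V₂.ι ''ᵁ (V₂.ι ⁻¹ᵁ O)) (M.presheaf.map (homOfLE (image_le h O)).op s)
  have hm : ((un V₂).app ((P V₁).obj M)).app O =
      M.presheaf.map (homOfLE (image_le h O)).op ≫ ((un V₁).app M).app (V₂.ι ''ᵁ (V₂.ι ⁻¹ᵁ O)) := by
    rw [Scheme.Modules.restrictAdjunction_unit_app_app, Scheme.Modules.restrictAdjunction_unit_app_app]
    erw [← M.presheaf.map_comp]
    exact congrArg M.presheaf.map (Subsingleton.elim _ _)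
  exact congr($hm s)

/-- Sections with support in `V₁ ∖ V₂`, on modules. -/
noncomputable def GM : Y.Modules ⥤ Y.Modules where
  obj M := kernel ((r h).app M)
  map {M N} φ := kernel.map _ _ ((P V₁).map φ) ((P V₂).map φ) ((r h).naturality φ).symm
  map_id M := by
    apply equalizer.hom_ext
    refine (kernel.lift_ι _ _ _).trans ?_
    rw [CategoryTheory.Functor.map_id]
    exact (Category.comp_id _).trans (Category.id_comp _).symm
  map_comp {M N K} φ ψ := by
    apply equalizer.hom_ext
    refine (kernel.lift_ι _ _ _).trans ?_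
    refine Eq.trans ?_ (Category.assoc _ _ _).symm
    rw [Functor.map_comp]
    refine Eq.trans ?_ (congrArg (_ ≫ ·) (kernel.lift_ι _ _ _).symm)
    exact (Category.assoc _ _ _).symm.trans ((congrArg (· ≫ (P V₁).map ψ) (kernel.lift_ι _ _ _).symm).trans (Category.assoc _ _ _))

/-- The inclusion. -/
noncomputable def ι₁ : GM h ⟶ P V₁ where
  app M := kernel.ι ((r h).app M)
  naturality _ _ _ := kernel.lift_ι _ _ _

instance additive_P (V : Y.Opens) : (P V).Additive := inferInstance

instance additive_GM : (GM h).Additive where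
  map_add {M N f g} := by
    haveI : Mono ((ι₁ h).app N) := inferInstanceAs (Mono (kernel.ι _))
    rw [← cancel_mono ((ι₁ h).app N), Preadditive.add_comp, (ι₁ h).naturality, (ι₁ h).naturality,
      (ι₁ h).naturality, Functor.map_add, Preadditive.comp_add]

theorem epi_r_of_flasque (M : Y.Modules) [TopCat.Sheaf.IsFlasque (X := sp Y) (Coh.toAb M)] : Epi ((r h).app M) := by
  refine QCohLib.epi_of_app_surjective _ (B := Set.univ)
    (Opens.isBasis_iff_nbhd.2 fun hx => ⟨_, trivial, hx, le_rfl⟩) ?_
  intro O _ t
  obtain ⟨s, hs⟩ := (AddCommGrpCat.epi_iff_surjective _).1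
    (TopCat.Presheaf.IsFlasque.epi (F := (Coh.toAb M).obj) (homOfLE (image_le h O)).op) t
  exact ⟨s, (r_app_apply h M O s).trans hs⟩

/-- Restriction and direct image preserve quasi-coherence in all degrees. -/
theorem isQuasicoherent_rightDerived_P (V : Y.Opens) [QuasiCompact V.ι] [HasInjectiveResolutions Y.Modules]
    (n : ℕ) (M : Y.Modules) [M.IsQuasicoherent] : (((P V).rightDerived n).obj M).IsQuasicoherent := by
  haveI := ModPush.enoughInjectives Y
  haveI := ModPush.enoughInjectives (V : Scheme.{u})
  haveI := ModPush.hasInjectiveResolutions (V : Scheme.{u})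
  haveI : PreservesFiniteLimits (Scheme.Modules.restrictFunctor V.ι) := inferInstance
  haveI : PreservesFiniteColimits (Scheme.Modules.restrictFunctor V.ι) := inferInstance
  obtain ⟨e⟩ := KerDerived.nonempty_comp_iso (Scheme.Modules.restrictFunctor V.ι) (Scheme.Modules.pushforward V.ι)
    (fun I _ m => by
      haveI := ModPush.isFlasque_toAb_of_injective I
      haveI := ModPush.isFlasque_restrict V.ι I
      exact ModPush.isZero_rightDerived_pushforward_of_flasque V.ι m _) n
  haveI : (M.restrict V.ι).IsQuasicoherent := inferInstance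
  haveI := ModPush.isQuasicoherent_rightDerived V.ι n (M.restrict V.ι)
  exact QCohLib.isQuasicoherent_of_iso (M := ((Scheme.Modules.pushforward V.ι).rightDerived n).obj (M.restrict V.ι))
    (e.app M).symm

/-- Local cohomology sheaves of a locally closed support are quasi-coherent. -/
theorem isQuasicoherent_rightDerived_GM [QuasiCompact V₁.ι] [QuasiCompact V₂.ι] [HasInjectiveResolutions Y.Modules]
    (i : ℕ) (M : Y.Modules) [M.IsQuasicoherent] : (((GM h).rightDerived i).obj M).IsQuasicoherent := by
  haveI := ModPush.enoughInjectives Y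
  let R := injectiveResolution M
  let c := ComplexShape.up ℕ
  let S : ShortComplex (CochainComplex Y.Modules ℕ) :=
    ShortComplex.mk ((NatTrans.mapHomologicalComplex (ι₁ h) c).app R.cocomplex)
      ((NatTrans.mapHomologicalComplex (r h) c).app R.cocomplex)
      (HomologicalComplex.hom_ext _ _ fun k => kernel.condition _)
  have hS : S.ShortExact := HomologicalComplex.shortExact_of_degreewise_shortExact S fun k =>
    { exact := ShortComplex.exact_of_f_is_kernel _ (kernelIsKernel _)
      mono_f := inferInstanceAs (Mono (kernel.ι _))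
      epi_g := by
        haveI : Injective (R.cocomplex.X k) := inferInstance
        haveI := ModPush.isFlasque_toAb_of_injective (R.cocomplex.X k)
        exact epi_r_of_flasque h _ }
  have hq : ∀ (V : Y.Opens) [QuasiCompact V.ι] (n : ℕ),
      ((((P V).mapHomologicalComplex c).obj R.cocomplex).homology n).IsQuasicoherent := fun V _ n => by
    haveI := isQuasicoherent_rightDerived_P V n M
    exact QCohLib.isQuasicoherent_of_iso (R.isoRightDerivedObj (P V) n)
  haveI h1 : ∀ n, (S.X₂.homology n).IsQuasicoherent := fun n => hq V₁ n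
  haveI h2 : ∀ n, (S.X₃.homology n).IsQuasicoherent := fun n => hq V₂ n
  suffices hX : (S.X₁.homology i).IsQuasicoherent from
    QCohLib.isQuasicoherent_of_iso (M := S.X₁.homology i) (R.isoRightDerivedObj (GM h) i).symm
  let b := HomologicalComplex.homologyMap S.f i
  haveI hk : (kernel (HomologicalComplex.homologyMap S.g i)).IsQuasicoherent := QCohLib.isQuasicoherent_kernel _
  cases i with
  | zero =>
    haveI : Mono b := by
      haveI := hS.mono_f
      exact HomologicalComplex.mono_homologyMap_of_mono_of_not_rel S.f 0 (fun k hk => by simp [ComplexShape.up] at hk)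
    have hex := hS.homology_exact₂ 0
    haveI : Mono (ShortComplex.mk b (HomologicalComplex.homologyMap S.g 0) (by
        rw [← HomologicalComplex.homologyMap_comp, S.zero, HomologicalComplex.homologyMap_zero])).f := ‹Mono b›
    exact QCohLib.isQuasicoherent_of_iso (M := kernel (HomologicalComplex.homologyMap S.g 0))
      ((kernelIsKernel _).conePointUniqueUpToIso hex.fIsKernel)
  | succ n =>
    have hr : c.Rel n (n + 1) := rfl
    let δ := hS.δ n (n + 1) hr
    let T := ShortComplex.mk (kernel.ι b) b (kernel.condition b)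
    haveI hker : (kernel b).IsQuasicoherent := by
      haveI := QCohLib.isQuasicoherent_cokernel (HomologicalComplex.homologyMap S.g n)
      have hex3 := hS.homology_exact₃ n (n + 1) hr
      have hex1 := hS.homology_exact₁ n (n + 1) hr
      let δ' : S.X₃.homology n ⟶ kernel b := kernel.lift b δ (hS.δ_comp n (n + 1) hr)
      haveI : Epi δ' := hex1.epi_kernelLift
      let T' := ShortComplex.mk (HomologicalComplex.homologyMap S.g n) δ'
        (by rw [← cancel_mono (kernel.ι b), Category.assoc, kernel.lift_ι, zero_comp]; exact hS.comp_δ n (n + 1) hr)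
      haveI : Epi T'.g := ‹Epi δ'›
      have hT' : T'.Exact :=
        (ShortComplex.exact_iff_of_epi_of_isIso_of_mono
          ({ τ₁ := 𝟙 _, τ₂ := 𝟙 _, τ₃ := kernel.ι b
             comm₁₂ := (Category.id_comp _).trans (Category.comp_id _).symm
             comm₂₃ := (Category.id_comp _).trans (kernel.lift_ι _ _ _).symm } :
            T' ⟶ ShortComplex.mk (HomologicalComplex.homologyMap S.g n) δ (hS.comp_δ n (n + 1) hr))).2 hex3
      exact QCohLib.isQuasicoherent_of_iso (M := cokernel (HomologicalComplex.homologyMap S.g n))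
        ((cokernelIsCokernel T'.f).coconePointUniqueUpToIso (hT'.gIsCokernel))
    haveI : (Abelian.image b).IsQuasicoherent := by
      have hex := hS.homology_exact₂ (n + 1)
      let k : Abelian.image b ≅ kernel (HomologicalComplex.homologyMap S.g (n + 1)) :=
        { hom := kernel.lift _ (Abelian.image.ι b) (by
            rw [← cancel_epi (Abelian.factorThruImage b), ← Category.assoc, Abelian.image.fac, comp_zero,
              ← HomologicalComplex.homologyMap_comp, S.zero, HomologicalComplex.homologyMap_zero])
          inv := kernel.lift _ (kernel.ι _)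
            ((ShortComplex.exact_iff_kernel_ι_comp_cokernel_π_zero _).1 hex)
          hom_inv_id := (cancel_mono (Abelian.image.ι b)).1 (by simp)
          inv_hom_id := (cancel_mono (kernel.ι _)).1 (by simp) }
      exact QCohLib.isQuasicoherent_of_iso k.symm
    let E : ShortComplex Y.Modules := ShortComplex.mk (kernel.ι b) (Abelian.factorThruImage b)
      (by rw [← cancel_mono (Abelian.image.ι b), Category.assoc, Abelian.image.fac, kernel.condition, zero_comp])
    have hE : E.ShortExact :=
      { exact := (ShortComplex.exact_iff_of_epi_of_isIso_of_mono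
          ({ τ₁ := 𝟙 _, τ₂ := 𝟙 _, τ₃ := Abelian.image.ι b
             comm₁₂ := (Category.id_comp _).trans (Category.comp_id _).symm
             comm₂₃ := (Category.id_comp _).trans (Abelian.image.fac b).symm } : E ⟶ T)).2
            (ShortComplex.exact_of_f_is_kernel _ (kernelIsKernel b))
        mono_f := inferInstanceAs (Mono (kernel.ι b))
        epi_g := inferInstanceAs (Epi (Abelian.factorThruImage b)) }
    haveI : E.X₁.IsQuasicoherent := hker
    haveI : E.X₃.IsQuasicoherent := ‹(Abelian.image b).IsQuasicoherent›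
    exact QCohLib.isQuasicoherent_of_extension E hE

end Groth.Agent.LocClosedSupp
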